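import Groth.Agent.InertiaEt31.Standard
import Groth.Agent.Ind91.Etale
import Mathlib.FieldTheory.Galois.Profinite
import Mathlib.FieldTheory.Galois.GaloisClosure
import Mathlib.RingTheory.IntegralClosure.IntegrallyClosed
import Mathlib.RingTheory.Localization.AtPrime.Basic

/-! The invariants of inertia in an infinite Galois extension are ind-étale at the prime. -/

set_option autoImplicit false

universe u

open scoped Pointwise

namespace Groth.Agent.IndInert31

section Topology

variable {K L : Type u} [Field K] [Field L] [Algebra K L] [IsGalois K L]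

theorem isClosed_eval (y : L) (U : Set L) : IsClosed {σ : L ≃ₐ[K] L | σ y ∈ U} := by
  have key : ∀ U : Set L, IsOpen {σ : L ≃ₐ[K] L | σ y ∈ U} := fun U => by
    rw [isOpen_iff_forall_mem_open]
    intro σ hσ
    refine ⟨(σ * ·) '' (MulAction.stabilizer (L ≃ₐ[K] L) y : Set (L ≃ₐ[K] L)), ?_, ?_, ⟨1, one_mem _, mul_one σ⟩⟩
    · rintro _ ⟨τ, hτ, rfl⟩
      show σ (τ y) ∈ U
      rw [show τ y = y from hτ]
      exact hσ
    · exact (Homeomorph.mulLeft σ).isOpenMap _ (stabilizer_isOpen_of_isIntegral y)
  exact ⟨key Uᶜ⟩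

end Topology

section Away

variable {A R₀ T : Type u} [CommRing A] [CommRing R₀] [CommRing T] [Algebra A R₀] [Algebra A T]

theorem lift_injective (ψ : R₀ →+* T) (hψ : Function.Injective ψ) (b : R₀) (hb : IsUnit (ψ b)) :
    Function.Injective (IsLocalization.Away.lift (S := Localization.Away b) b hb) := by
  rw [injective_iff_map_eq_zero]
  intro z hz
  obtain ⟨r, s, rfl⟩ := IsLocalization.exists_mk'_eq (Submonoid.powers b) z
  have hs := IsLocalization.mk'_spec (Localization.Away b) r s
  have h0 : ψ r = 0 := by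
    rw [← IsLocalization.Away.lift_eq (S := Localization.Away b) b hb, ← hs, map_mul, hz, zero_mul]
  rw [show r = 0 from hψ (h0.trans (map_zero ψ).symm), IsLocalization.mk'_zero]

theorem away_factor (ψ : R₀ →ₐ[A] T) (hψ : Function.Injective ψ) (b : R₀) (hb : IsUnit (ψ b))
    [Algebra.Etale A (Localization.Away b)] (t : R₀) (ht : IsUnit (ψ t)) :
    ∃ (W : Type u) (_ : CommRing W) (_ : Algebra A W) (v : W →ₐ[A] T),
      Algebra.Etale A W ∧ Function.Injective v ∧
      ∀ a d : R₀, d ∣ t → ∀ z, z * ψ d = ψ a → z ∈ Set.range v := by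
  let W₀ := Localization.Away b
  let v₀ : W₀ →+* T := IsLocalization.Away.lift (g := ψ.toRingHom) b hb
  have hv₀c : ∀ r, v₀ (algebraMap R₀ W₀ r) = ψ r := IsLocalization.Away.lift_eq b hb
  let t₁ : W₀ := algebraMap R₀ W₀ t
  let W := Localization.Away t₁
  have : Algebra.Etale W₀ W := Algebra.Etale.of_isLocalizationAway t₁
  have ht₁ : IsUnit (v₀ t₁) := by rw [hv₀c]; exact ht
  let v₁ : W →+* T := IsLocalization.Away.lift t₁ ht₁
  have hv₁c : ∀ r, v₁ (algebraMap W₀ W r) = v₀ r := IsLocalization.Away.lift_eq t₁ ht₁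
  let v : W →ₐ[A] T :=
    { v₁ with
      commutes' := fun a => by
        show v₁ (algebraMap A W a) = _
        rw [IsScalarTower.algebraMap_apply A W₀ W, hv₁c, IsScalarTower.algebraMap_apply A R₀ W₀, hv₀c,
          ψ.commutes] }
  refine ⟨W, inferInstance, inferInstance, v, Algebra.Etale.comp A W₀ W,
    lift_injective v₀ (lift_injective ψ.toRingHom hψ b hb) t₁ ht₁, fun a d hd z hz => ?_⟩
  have hdW : IsUnit (algebraMap W₀ W (algebraMap R₀ W₀ d)) :=
    isUnit_of_dvd_unit (map_dvd _ (map_dvd _ hd)) (IsLocalization.Away.algebraMap_isUnit t₁)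
  refine ⟨algebraMap W₀ W (algebraMap R₀ W₀ a) * ↑hdW.unit⁻¹, ?_⟩
  have e1 : ∀ x, v₁ (algebraMap W₀ W (algebraMap R₀ W₀ x)) = ψ x := fun x => by rw [hv₁c, hv₀c]
  apply (isUnit_of_dvd_unit (map_dvd ψ hd) ht).mul_right_cancel
  rw [hz]
  show v₁ _ * _ = _
  rw [← e1 d, ← map_mul, mul_assoc, IsUnit.val_inv_mul, mul_one, e1 a]

omit [Algebra A R₀] [Algebra A T] in
theorem etale_of_bijective {G W : Type u} [CommRing G] [CommRing W] [Algebra A G] [Algebra G W]
    [Algebra A W] [IsScalarTower A G W] (h : Function.Bijective (algebraMap A G))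
    (hW : Algebra.Etale G W) : Algebra.Etale A W := by
  have : Algebra.Etale A G := Algebra.Etale.of_equiv (AlgEquiv.ofBijective (Algebra.ofId A G) h)
  exact Algebra.Etale.comp A G W

end Away

section Main

variable {A K L : Type u} [CommRing A] [IsDomain A] [IsIntegrallyClosed A]
    [Field K] [Field L] [Algebra A K] [IsFractionRing A K] [Algebra K L] [Algebra A L] [IsScalarTower A K L]
    [IsGalois K L] (q : Ideal (integralClosure A L)) [q.IsPrime]
    (I : Subgroup (L ≃ₐ[K] L))
    (hI : ∀ σ : L ≃ₐ[K] L, σ ∈ I ↔ ∀ b : integralClosure A L, ∃ c ∈ q, (c : L) = σ b - b)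

include hI in
/-- An element fixed by inertia is fixed by everything which is inertial on a suitable finite set. -/
theorem exists_finset (x : L) (hx : ∀ σ ∈ I, σ x = x) :
    ∃ F : Finset (integralClosure A L), ∀ σ : L ≃ₐ[K] L,
      (∀ b ∈ F, ∃ c ∈ q, (c : L) = σ b - b) → σ x = x := by
  classical
  let t : integralClosure A L → Set (L ≃ₐ[K] L) := fun b =>
    {σ | σ (b : L) ∈ {a : L | ∃ c ∈ q, (c : L) = a - b}}
  let Z : Set (L ≃ₐ[K] L) := {σ | σ x ∈ ({x}ᶜ : Set L)}
  have hZ : IsCompact Z := (isClosed_eval x _).isCompact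
  have hempty : Z ∩ ⋂ b, t b = ∅ := by
    rw [Set.eq_empty_iff_forall_notMem]
    rintro σ ⟨h1, h2⟩
    exact h1 (hx σ ((hI σ).2 fun b => Set.mem_iInter.1 h2 b))
  obtain ⟨F, hF⟩ := hZ.elim_finite_subfamily_closed t (fun b => isClosed_eval _ _) hempty
  refine ⟨F, fun σ hσ => by_contra fun hne => ?_⟩
  exact Set.eq_empty_iff_forall_notMem.1 hF σ ⟨hne, Set.mem_iInter₂.2 hσ⟩

variable (A) in
/-- The invariants of `I` in the integral closure. -/
abbrev S : Subalgebra A L :=
  integralClosure A L ⊓ (IntermediateField.fixedField I).toSubalgebra.restrictScalars A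

/-- The prime below `q`. -/
abbrev p : Ideal (S A I) := q.comap (Subalgebra.inclusion inf_le_left)

set_option maxHeartbeats 1600000 in
include hI in
theorem factor (F : Finset (S A I)) :
    ∃ (W : Type u) (_ : CommRing W) (_ : Algebra A W) (v : W →ₐ[A] Localization.AtPrime (p q I)),
      Algebra.Etale A W ∧ Function.Injective v ∧
      ∀ a t : S A I, a ∈ F → t ∈ F → t ∉ p q I →
        ∀ z, z * algebraMap _ _ t = algebraMap _ (Localization.AtPrime (p q I)) a → z ∈ Set.range v := by
  classical
  have hfix : ∀ x : S A I, ∀ σ ∈ I, σ (x : L) = x := fun x σ hσ => x.2.2 ⟨σ, hσ⟩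
  choose Fx hFx using fun x : S A I => exists_finset q I hI (x : L) (hfix x)
  let Fall : Finset L := F.image Subtype.val ∪ (F.biUnion Fx).image Subtype.val
  let M := FiniteGaloisIntermediateField.adjoin K (Fall : Set L)
  let M' : IntermediateField K L := M.toIntermediateField
  have hM : ∀ y ∈ Fall, y ∈ M' := fun y hy =>
    FiniteGaloisIntermediateField.subset_adjoin K (Fall : Set L) hy
  have : FiniteDimensional K M' := M.finiteDimensional
  have : IsGalois K M' := M.isGalois
  have : SMulCommClass (M' ≃ₐ[K] M') A M' := ⟨fun g a m => by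
    show g (a • m) = a • g m
    rw [Algebra.smul_def, Algebra.smul_def, map_mul, IsScalarTower.algebraMap_apply A K M', g.commutes]⟩
  have : IsScalarTower A M' L := IsScalarTower.of_algebraMap_eq fun a => by
    rw [IsScalarTower.algebraMap_apply A K L, IsScalarTower.algebraMap_apply A K M', IsScalarTower.algebraMap_apply K M' L]
  let R := integralClosure A M'
  have hAL : Function.Injective (algebraMap M' L) := (algebraMap M' L).injective
  let j : R →+* integralClosure A L :=
    ((algebraMap M' L).comp (algebraMap R M')).codRestrict (integralClosure A L).toSubsemiring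
      fun r => r.2.algebraMap
  let qM : Ideal R := q.comap j
  have : qM.IsPrime := Ideal.IsPrime.comap _
  obtain ⟨b, hb, het⟩ := InertiaEt31.exists_etale (G := M' ≃ₐ[K] M') qM
  let RG := FixedPoints.subring R (M' ≃ₐ[K] M')
  let R₀ := FixedPoints.subring R (qM.inertia (M' ≃ₐ[K] M'))
  -- the map from `R₀`
  have hres : ∀ (σ : L ≃ₐ[K] L) (m : M'),
      algebraMap M' L (AlgEquiv.restrictNormalHom M' σ m) = σ (algebraMap M' L m) :=
    fun σ m => σ.restrictNormal_commutes M' m
  have hR₀ : ∀ r : R₀, ((j r : integralClosure A L) : L) ∈ S A I := fun r => by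
    refine ⟨(j r).2, fun ⟨σ, hσ⟩ => ?_⟩
    show σ (algebraMap M' L ((r : R) : M')) = algebraMap M' L ((r : R) : M')
    have hτ : AlgEquiv.restrictNormalHom M' σ ∈ qM.inertia (M' ≃ₐ[K] M') := fun y => by
      show j (AlgEquiv.restrictNormalHom M' σ • y - y) ∈ q
      obtain ⟨c, hc, hcy⟩ := (hI σ).1 hσ (j y)
      convert hc
      apply Subtype.ext
      rw [hcy, map_sub]
      show algebraMap M' L (AlgEquiv.restrictNormalHom M' σ (y : M')) - algebraMap M' L (y : M') = _
      rw [hres]
      rfl
    rw [← hres]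
    exact congrArg (algebraMap M' L) (congrArg Subtype.val (r.2 ⟨_, hτ⟩))
  let ι : R₀ →+* S A I :=
    (((integralClosure A L).val.toRingHom).comp (j.comp R₀.subtype)).codRestrict (S A I).toSubsemiring hR₀
  have hι : Function.Injective ι := fun r r' h => by
    apply Subtype.ext; apply Subtype.ext; apply hAL
    exact congrArg (fun z : S A I => (z : L)) h
  have hι' : ∀ x : S A I, (x : L) ∈ M' → (∀ f ∈ Fx x, (f : L) ∈ M') → x ∈ Set.range ι := by
    intro x hxM hfM
    have hint : ∀ (y : L) (hy : y ∈ M'), IsIntegral A y → IsIntegral A (⟨y, hy⟩ : M') := fun y hy h =>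
      (isIntegral_algebraMap_iff hAL).1 h
    let r : R := ⟨⟨x, hxM⟩, hint _ hxM x.2.1⟩
    refine ⟨⟨r, fun ⟨τ, hτ⟩ => ?_⟩, Subtype.ext rfl⟩
    obtain ⟨σ, rfl⟩ := AlgEquiv.restrictNormalHom_surjective (F := K) (K₁ := M') (E := L) τ
    apply Subtype.ext
    apply hAL
    show algebraMap M' L (AlgEquiv.restrictNormalHom M' σ ⟨x, hxM⟩) = (x : L)
    rw [hres]
    refine hFx x σ fun f hf => ?_
    let rf : R := ⟨⟨f, hfM f hf⟩, hint _ (hfM f hf) f.2⟩
    refine ⟨_, hτ rf, ?_⟩
    show algebraMap M' L (((AlgEquiv.restrictNormalHom M' σ • rf - rf : R) : M')) = _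
    rw [AddSubgroupClass.coe_sub, map_sub]
    show algebraMap M' L (AlgEquiv.restrictNormalHom M' σ ⟨f, hfM f hf⟩) - _ = _
    rw [hres]
    rfl
  have hmemF : ∀ x ∈ F, x ∈ Set.range ι := fun x hx => hι' x
    (hM _ (Finset.mem_union_left _ (Finset.mem_image_of_mem _ hx)))
    (fun f hf => hM _ (Finset.mem_union_right _ (Finset.mem_image_of_mem _
      (Finset.mem_biUnion.2 ⟨x, hx, hf⟩))))
  choose ρ hρ using hmemF
  -- the denominators
  let T := Localization.AtPrime (p q I)
  let ψ : R₀ →+* T := (algebraMap (S A I) T).comp ι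
  have hψ : Function.Injective ψ :=
    (IsLocalization.injective T (Ideal.primeCompl_le_nonZeroDivisors (p q I))).comp hι
  let Fd := F.attach.filter fun t => t.1 ∉ p q I
  let t₀ : R₀ := ∏ t ∈ Fd, ρ t t.2
  have hunit : ∀ r : R₀, ι r ∉ p q I → IsUnit (ψ r) := fun r hr =>
    IsLocalization.map_units T (⟨ι r, hr⟩ : (p q I).primeCompl)
  have hbu : IsUnit (ψ b) := hunit b hb
  have htu : IsUnit (ψ t₀) := by
    rw [map_prod, IsUnit.prod_iff]
    intro t ht
    exact hunit _ (by rw [hρ]; exact (Finset.mem_filter.1 ht).2)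
  have hAfix : ∀ (a : A) (g : M' ≃ₐ[K] M'), g • algebraMap A R a = algebraMap A R a := fun a g => by
    apply Subtype.ext
    show g (algebraMap A M' a) = algebraMap A M' a
    rw [IsScalarTower.algebraMap_apply A K M', g.commutes]
  let φ : A →+* RG := (algebraMap A R).codRestrict RG fun a g => hAfix a g
  letI : Algebra A RG := φ.toAlgebra
  letI : Algebra A R₀ := ((algebraMap RG R₀).comp φ).toAlgebra
  have : IsScalarTower A RG R₀ := IsScalarTower.of_algebraMap_eq (R := A) (S := RG) (A := R₀) fun _ => rfl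
  have : IsScalarTower A RG (Localization.Away b) := IsScalarTower.of_algebraMap_eq fun a => by
    rw [IsScalarTower.algebraMap_apply A R₀ (Localization.Away b),
      IsScalarTower.algebraMap_apply RG R₀ (Localization.Away b), IsScalarTower.algebraMap_apply A RG R₀]
  have hφ : Function.Bijective φ := by
    constructor
    · intro a a' h
      have h' : algebraMap A M' a = algebraMap A M' a' := congrArg (fun z : RG => ((z : R) : M')) h
      rw [IsScalarTower.algebraMap_apply A K M', IsScalarTower.algebraMap_apply A K M'] at h'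
      exact IsFractionRing.injective A K ((algebraMap K M').injective h')
    · rintro ⟨r, hr⟩
      obtain ⟨k, hk⟩ := (IsGalois.mem_range_algebraMap_iff_fixed ((r : R) : M')).2
        fun g => congrArg Subtype.val (hr g)
      have h2 : IsIntegral A k := (isIntegral_algebraMap_iff (algebraMap K M').injective).1 (by rw [hk]; exact r.2)
      obtain ⟨a, rfl⟩ := IsIntegrallyClosed.algebraMap_eq_of_integral h2
      refine ⟨a, Subtype.ext (Subtype.ext ?_)⟩
      show algebraMap A M' a = _
      rw [IsScalarTower.algebraMap_apply A K M', hk]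
  have : Algebra.Etale A (Localization.Away b) := etale_of_bijective hφ het
  let ψA : R₀ →ₐ[A] T :=
    { ψ with
      commutes' := fun a => by
        show algebraMap (S A I) T (ι _) = _
        rw [IsScalarTower.algebraMap_apply A (S A I) T]
        refine congrArg (algebraMap (S A I) T) (Subtype.ext ?_)
        exact (IsScalarTower.algebraMap_apply A M' L a).symm }
  obtain ⟨W, _, _, v, hW, hv, hr⟩ := away_factor ψA hψ b hbu t₀ htu
  refine ⟨W, inferInstance, inferInstance, v, hW, hv, fun a t ha ht htp z hz => ?_⟩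
  refine hr (ρ a ha) (ρ t ht) ?_ z ?_
  · exact Finset.dvd_prod_of_mem (fun t : {x // x ∈ F} => ρ t.1 t.2)
      (Finset.mem_filter.2 ⟨Finset.mem_attach _ ⟨t, ht⟩, htp⟩)
  · show z * algebraMap (S A I) T (ι (ρ t ht)) = algebraMap (S A I) T (ι (ρ a ha))
    rw [hρ, hρ]
    exact hz

include hI in
theorem isIndEtale : EtPBC.IsIndEtale A (Localization.AtPrime (p q I)) := by
  classical
  refine (Ind91.isIndEtale_iff A _).2 fun C _ _ hC g => ?_
  obtain ⟨s, hs⟩ := (inferInstance : Algebra.FiniteType A C).out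
  choose a t hat using fun c : C => IsLocalization.exists_mk'_eq (p q I).primeCompl (g c)
  obtain ⟨W, _, _, v, hW, hv, hrange⟩ := factor q I hI (s.image a ∪ s.image fun c => (t c : S A I))
  have hg : g.range ≤ v.range := by
    rw [← Algebra.map_top, ← hs, AlgHom.map_adjoin, Algebra.adjoin_le_iff]
    rintro _ ⟨c, hc, rfl⟩
    exact hrange (a c) (t c) (Finset.mem_union_left _ (Finset.mem_image_of_mem _ hc))
      (Finset.mem_union_right _ (Finset.mem_image_of_mem (fun c => (t c : S A I)) hc)) (t c).2 (g c)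
      (IsLocalization.eq_mk'_iff_mul_eq.1 (hat c).symm)
  let u : C →ₐ[A] W :=
    (AlgEquiv.ofInjective v hv).symm.toAlgHom.comp ((Subalgebra.inclusion hg).comp g.rangeRestrict)
  refine ⟨W, inferInstance, inferInstance, hW, u, v, AlgHom.ext fun c => ?_⟩
  exact congrArg Subtype.val ((AlgEquiv.ofInjective v hv).apply_symm_apply _)

end Main

end Groth.Agent.IndInert31
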